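/-
Coset enumeration certificate: the assembled result.
-/
import Cfsg.Agent.Lib.Spor.TC.Steps
import Cfsg.Agent.Lib.Spor.Suz.Rels
import Cfsg.Agent.Lib.Spor.Suz.C3.Part0
import Cfsg.Agent.Lib.Spor.Suz.C3.Part1
import Cfsg.Agent.Lib.Spor.Suz.C3.Part2
import Cfsg.Agent.Lib.Spor.Suz.C3.Part3

namespace CfsgLib.Spor.Suz.C3

open CfsgLib.Spor.TC

theorem steps_ok : cert.StepsOK 0 31580 :=
  (((((((((steps0.append _ steps3338).append _ steps6651).append _ steps9961).append _ steps13262).append _ steps16547).append _ steps19812).append _ steps22960).append _ steps26239).append _ steps29590)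

theorem rows_ok : cert.RowsOK 31580 2160 0 2160 :=
  (rows0.append _ rows2000)

theorem row_zero : cert.rowNode 0 = 0 := by decide +kernel

/-- The certificate, for the relators as powers of words. -/
noncomputable def cosetCert : CosetCert 4 relsC [] 2160 :=
  ⟨cert, 31580, steps_ok, rows_ok, row_zero, by decide, rfl, by decide +kernel, by decide +kernel⟩

end CfsgLib.Spor.Suz.C3
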